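import Mathlib.Algebra.Homology.QuasiIso
import Mathlib.Algebra.Homology.ShortComplex.Abelian
import Mathlib.CategoryTheory.Abelian.Refinements
import Mathlib.Algebra.Homology.ShortComplex.Exact
import Mathlib.CategoryTheory.Limits.Shapes.BinaryBiproducts
import Mathlib.CategoryTheory.ObjectProperty.ClosedUnderIsomorphisms

/-! Bounded below resolutions by complexes in a class. -/

open CategoryTheory CategoryTheory.Limits

namespace Groth.Agent.ClassResBelow

universe v u

variable {C : Type u} [Category.{v} C] [Abelian C] (P : ChainComplex C ℤ)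

structure St (n : ℤ) where
  Z : C
  Q : C
  w : Z ⟶ P.cycles n
  ι : Z ⟶ Q
  f : Q ⟶ P.X n

variable {P}

structure Link {j i : ℤ} (s : St P j) (t : St P i) where
  δ : t.Q ⟶ s.Z
  comm : δ ≫ s.w ≫ P.iCycles j = t.f ≫ P.d i j
  zero : t.ι ≫ δ = 0
  ker : (ShortComplex.mk t.ι δ zero).Exact
  zero' : δ ≫ s.w ≫ P.homologyπ j = 0
  coker : (ShortComplex.mk δ (s.w ≫ P.homologyπ j) zero').Exact

structure Ok (K' : ObjectProperty C) {n : ℤ} (s : St P n) : Prop where
  mem : K' s.Z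
  mono : Mono s.ι
  epi : Epi (s.w ≫ P.homologyπ n)
  fac : s.ι ≫ s.f = s.w ≫ P.iCycles n

variable (K' K'' : ObjectProperty C) [K'.IsClosedUnderIsomorphisms] [K''.IsClosedUnderIsomorphisms]
    (hsub : K'' ≤ K')
    (h1 : ∀ ⦃A A' : C⦄ (u : A ⟶ A'), K' A' → Epi u → ∃ (B : C) (v : B ⟶ A), K'' B ∧ Epi (v ≫ u))
    (h2 : ∀ ⦃A B : C⦄ (u : A ⟶ B), K' A → K' B → Epi u → K' (kernel u))
    (h3 : ∀ ⦃B B' : C⦄, K'' B → K'' B' → K'' (B ⨯ B'))
    (hP : ∀ i, K' (P.homology i))

include hsub h1 h2 h3 hP in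
theorem step {j i : ℤ} (hij : j + 1 = i) (s : St P j) (hs : Ok K' s) :
    ∃ t : St P i, Ok K' t ∧ K'' t.Q ∧ Nonempty (Link s t) := by
  have := hs.epi
  let p := s.w ≫ P.homologyπ j
  have hB : K' (kernel p) := h2 p hs.mem (hP j) hs.epi
  let S := ShortComplex.mk (P.toCycles i j) (P.homologyπ j) (P.toCycles_comp_homologyπ i j)
  have hS : S.Exact := ShortComplex.exact_of_g_is_cokernel _
    (P.homologyIsCokernel i j ((ComplexShape.down ℤ).prev_eq' (show j + 1 = i from hij)))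
  obtain ⟨A', π', hπ', x, hx⟩ := hS.exact_up_to_refinements (A := kernel p) (kernel.ι p ≫ s.w)
    (by show (kernel.ι p ≫ s.w) ≫ P.homologyπ j = 0; rw [Category.assoc]; exact kernel.condition p)
  change π' ≫ kernel.ι p ≫ s.w = x ≫ P.toCycles i j at hx
  obtain ⟨B₁, v₁, hB₁, hv₁⟩ := h1 π' hB hπ'
  obtain ⟨B₂, v₂, hB₂, hv₂⟩ := h1 (P.homologyπ i) (hP i) inferInstance
  let δ₀ : B₁ ⊞ B₂ ⟶ kernel p := biprod.desc (v₁ ≫ π') 0
  have : Epi δ₀ := by
    have : Epi (biprod.inl ≫ δ₀) := by rw [biprod.inl_desc]; exact hv₁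
    exact epi_of_epi biprod.inl δ₀
  let δ : B₁ ⊞ B₂ ⟶ s.Z := δ₀ ≫ kernel.ι p
  let f : B₁ ⊞ B₂ ⟶ P.X i := biprod.desc (v₁ ≫ x) (v₂ ≫ P.iCycles i)
  have hcomm : δ ≫ s.w ≫ P.iCycles j = f ≫ P.d i j := by
    apply biprod.hom_ext' <;> simp only [δ, δ₀, f, Category.assoc, biprod.inl_desc_assoc, biprod.inr_desc_assoc]
    · rw [← P.toCycles_i i j]
      have := congrArg (fun g => v₁ ≫ g ≫ P.iCycles j) hx
      simpa using this
    · simp
  have hQ : K'' (B₁ ⊞ B₂) := K''.prop_of_iso (biprod.isoProd _ _).symm (h3 hB₁ hB₂)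
  let w : kernel δ ⟶ P.cycles i := P.liftCycles (kernel.ι δ ≫ f) j
    ((ComplexShape.down ℤ).next_eq' (show j + 1 = i from hij)) (by rw [Category.assoc, ← hcomm, kernel.condition_assoc, zero_comp])
  refine ⟨⟨kernel δ, B₁ ⊞ B₂, w, kernel.ι δ, f⟩, ⟨?_, inferInstance, ?_, ?_⟩, hQ,
    ⟨⟨δ, hcomm, kernel.condition δ, ShortComplex.exact_of_f_is_kernel _ (kernelIsKernel δ), ?_, ?_⟩⟩⟩
  · exact K'.prop_of_iso (kernelCompMono δ₀ (kernel.ι p)).symm (h2 δ₀ (hsub _ hQ) hB inferInstance)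
  · have hk : biprod.inr ≫ δ = 0 := by simp [δ, δ₀]
    have e : kernel.lift δ biprod.inr hk ≫ w = v₂ := by
      rw [← cancel_mono (P.iCycles i)]
      simp [w, f]
    have : Epi (kernel.lift δ biprod.inr hk ≫ w ≫ P.homologyπ i) := by
      rw [← Category.assoc, e]; exact hv₂
    exact epi_of_epi (kernel.lift δ biprod.inr hk) _
  · simp [w]
  · show δ ≫ p = 0
    simp [δ, kernel.condition]
  · rw [ShortComplex.exact_iff_epi_kernel_lift]
    have e : kernel.lift p δ (by simp [δ, kernel.condition]) = δ₀ := by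
      rw [← cancel_mono (kernel.ι p)]
      simp [δ]
    show Epi (kernel.lift p δ _)
    rw [e]
    infer_instance

include hsub h1 h2 h3 hP in
theorem exists_resolution (d : ℤ) (hd : ∀ i < d, IsZero (P.homology i)) :
    ∃ (Q : ChainComplex C ℤ) (u : Q ⟶ P),
      (∀ i, d ≤ i → K'' (Q.X i)) ∧ (∀ i < d, IsZero (Q.X i)) ∧ QuasiIso u := by
  classical
  obtain ⟨O, hO⟩ : ∃ O : C, IsZero O := ⟨P.homology (d - 1), hd _ (by omega)⟩
  let tr : ∀ n, St P n := fun n => ⟨O, O, 0, 0, 0⟩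
  have htr : ∀ n, n < d → Ok K' (tr n) := fun n hn =>
    ⟨K'.prop_of_iso ((hd _ hn).iso hO) (hP n), ⟨fun g h _ => hO.eq_of_tgt g h⟩,
      ⟨fun g h _ => (hd _ hn).eq_of_src g h⟩, by simp [tr]⟩
  choose F hF using fun (j i : ℤ) (hij : j + 1 = i) (s : St P j) (hs : Ok K' s) =>
    step K' K'' hsub h1 h2 h3 hP hij s hs
  let G : ℕ → ∀ n, St P n := fun k => Nat.rec (motive := fun _ => ∀ n, St P n) tr
    (fun _ g n => if h : Ok K' (g (n - 1)) then F (n - 1) n (by omega) _ h else tr n) k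
  let g : ∀ n, St P n := fun n => G (n - (d - 1)).toNat n
  have glow : ∀ n, n < d → g n = tr n := fun n hn => by
    show G (n - (d - 1)).toNat n = tr n
    rw [show (n - (d - 1)).toNat = 0 by omega]
    rfl
  have ghigh : ∀ n, d ≤ n → g n = if h : Ok K' (g (n - 1)) then F (n - 1) n (by omega) _ h else tr n := fun n hn => by
    show G (n - (d - 1)).toNat n = _
    have e : (n - (d - 1)).toNat = (n - 1 - (d - 1)).toNat + 1 := by omega
    rw [e]
  have gok : ∀ n, Ok K' (g n) := by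
    intro n
    by_cases hn : n < d
    · rw [glow n hn]; exact htr n hn
    · obtain ⟨k, rfl⟩ : ∃ k : ℕ, n = d + k := ⟨(n - d).toNat, by omega⟩
      induction k with
      | zero =>
        have h : Ok K' (g (d + (0 : ℕ) - 1)) := by rw [glow _ (by omega)]; exact htr _ (by omega)
        rw [ghigh _ (by omega), dif_pos h]
        exact (hF _ _ _ _ h).1
      | succ k ih =>
        have h : Ok K' (g (d + (k + 1 : ℕ) - 1)) := by
          rw [show d + (k + 1 : ℕ) - 1 = d + k by omega]; exact ih (by omega)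
        rw [ghigh _ (by omega), dif_pos h]
        exact (hF _ _ _ _ h).1
  have glink : ∀ j, Nonempty (Link (g j) (g (j + 1))) := by
    intro j
    by_cases hn : j + 1 < d
    · rw [glow j (by omega), glow _ hn]
      exact ⟨⟨0, by simp [tr], by simp, ShortComplex.exact_of_isZero_X₂ _ hO, by simp,
        ShortComplex.exact_of_isZero_X₂ _ hO⟩⟩
    · obtain ⟨j', hj'⟩ : ∃ j', j + 1 - 1 = j' := ⟨_, rfl⟩
      rw [ghigh (j + 1) (by omega), dif_pos (gok _)]
      have key : ∀ (m : ℤ) (e : m + 1 = j + 1), Nonempty (Link (g j) (F m (j + 1) e _ (gok m))) := by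
        intro m e
        obtain rfl : m = j := by omega
        exact (hF _ _ _ _ (gok m)).2.2
      exact key _ (by omega)
  let L : ∀ j, Link (g j) (g (j + 1)) := fun j => (glink j).some
  have hsq : ∀ n, ((L (n + 1)).δ ≫ (g (n + 1)).ι) ≫ (L n).δ ≫ (g n).ι = 0 := fun n => by
    rw [Category.assoc, ← Category.assoc (g (n + 1)).ι, (L n).zero, zero_comp, comp_zero]
  let Q : ChainComplex C ℤ := ChainComplex.of (fun n => (g n).Q) (fun n => (L n).δ ≫ (g n).ι) hsq
  have hQd : ∀ n, Q.d (n + 1) n = (L n).δ ≫ (g n).ι := fun n => by simp [Q]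
  let u : Q ⟶ P :=
    { f := fun n => (g n).f
      comm' := fun i j h => by
        obtain rfl : j + 1 = i := h
        rw [hQd, Category.assoc, (gok j).fac, (L j).comm] }
  refine ⟨Q, u, fun n hn => ?_, fun n hn => ?_, ⟨fun n => ?_⟩⟩
  · show K'' (g n).Q
    rw [ghigh n hn, dif_pos (gok _)]
    exact (hF _ _ _ _ (gok _)).2.1
  · show IsZero (g n).Q
    rw [glow n hn]
    exact hO
  · obtain ⟨m, rfl⟩ : ∃ m, n = m + 1 := ⟨n - 1, by omega⟩
    rw [quasiIsoAt_iff_isIso_homologyMap]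
    have := (gok (m + 1)).mono
    have := (gok m).mono
    have := (gok (m + 1)).epi
    have hnext : (ComplexShape.down ℤ).next (m + 1) = m := (ComplexShape.down ℤ).next_eq' (show m + 1 = m + 1 from rfl)
    have hιd : (g (m + 1)).ι ≫ Q.d (m + 1) m = 0 := by
      rw [hQd, ← Category.assoc, (L m).zero, zero_comp]
    have : Mono (ShortComplex.mk (g (m + 1)).ι (L m).δ (L m).zero).f := (gok (m + 1)).mono
    let e : (g (m + 1)).Z ⟶ Q.cycles (m + 1) := Q.liftCycles (g (m + 1)).ι m hnext hιd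
    let e' : Q.cycles (m + 1) ⟶ (g (m + 1)).Z := (L m).ker.lift (Q.iCycles (m + 1)) (by
      rw [← cancel_mono (g m).ι, zero_comp, Category.assoc, ← hQd, Q.iCycles_d])
    have he : e' ≫ e = 𝟙 _ := by
      rw [← cancel_mono (Q.iCycles (m + 1)), Category.assoc, HomologicalComplex.liftCycles_i, Category.id_comp]
      exact (L m).ker.lift_f _ _
    have : Epi e := by
      have : IsSplitEpi e := ⟨⟨⟨e', he⟩⟩⟩
      infer_instance
    have hw : e ≫ HomologicalComplex.cyclesMap u (m + 1) = (g (m + 1)).w := by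
      rw [← cancel_mono (P.iCycles (m + 1)), Category.assoc, HomologicalComplex.cyclesMap_i,
        HomologicalComplex.liftCycles_i_assoc]
      exact (gok (m + 1)).fac
    have hto : Q.toCycles (m + 1 + 1) (m + 1) = (L (m + 1)).δ ≫ e := by
      rw [← cancel_mono (Q.iCycles (m + 1)), Category.assoc, HomologicalComplex.liftCycles_i,
        HomologicalComplex.toCycles_i, hQd]
    let S := ShortComplex.mk (L (m + 1)).δ ((g (m + 1)).w ≫ P.homologyπ (m + 1)) (L (m + 1)).zero'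
    have : Epi S.g := (gok (m + 1)).epi
    let q : P.homology (m + 1) ⟶ Q.homology (m + 1) := (L (m + 1)).coker.desc (e ≫ Q.homologyπ (m + 1)) (by
      show (L (m + 1)).δ ≫ e ≫ Q.homologyπ (m + 1) = 0
      rw [← Category.assoc, ← hto, Q.toCycles_comp_homologyπ])
    have hq : ((g (m + 1)).w ≫ P.homologyπ (m + 1)) ≫ q = e ≫ Q.homologyπ (m + 1) := (L (m + 1)).coker.g_desc _ _
    have hm : e ≫ Q.homologyπ (m + 1) ≫ HomologicalComplex.homologyMap u (m + 1) = (g (m + 1)).w ≫ P.homologyπ (m + 1) := by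
      rw [HomologicalComplex.homologyπ_naturality, ← Category.assoc, hw]
    refine ⟨q, ?_, ?_⟩
    · rw [← cancel_epi (Q.homologyπ (m + 1)), ← cancel_epi e, Category.comp_id, reassoc_of% hm, ← hq, Category.assoc]
    · rw [← cancel_epi ((g (m + 1)).w ≫ P.homologyπ (m + 1)), ← Category.assoc, hq, Category.assoc, hm, Category.comp_id]

end Groth.Agent.ClassResBelow
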